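import Groth.Agent.AlgSt.K608.KMCls
import Groth.Agent.AlgSt.K736.KMScheme
import Groth.Agent.AlgSt.K746.WnaMod
import Groth.Agent.AlgSt.K746.ModUniq
import Groth.Agent.AlgSp.K608.SepAbs
import Groth.Agent.AlgSp.K596.QC2
import Groth.Agent.S12828
import Groth.Agent.S12831
import Groth.Agent.S12832
import Groth.Agent.S12833
import Groth.Agent.S12981

/-!
# Consequences of the Keel-Mori theorem

* `geomPtBij_of_isUnivHomeo`: a universal homeomorphism from an algebraic stack to an algebraic space is bijective on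
  geometric points.
* `isSeparatedSp`, `isQuasiSeparatedSp`: a separated (quasi-separated) algebraic stack has a separated
  (quasi-separated) moduli space.
* `props`: the properties of the Keel-Mori moduli space hold for every categorical moduli space.
-/

set_option autoImplicit false
set_option backward.isDefEq.respectTransparency false
set_option backward.isDefEq.respectTransparency.types false

universe u

open CategoryTheory CategoryTheory.Limits AlgebraicGeometry Opposite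
open K734.Fib

namespace K608.KMGeom

open K608.KMCls

variable {S : Scheme.{u}} {𝒳 𝒴 𝒵 : AlgSt.Cat S} {M : AlgSp.Sp S}

section Homeo

theorem univHomeo_congr {f g : 𝒳 ⥤ᵇ 𝒴} (e : f ≅ g) (h : AlgSt.IsUnivHomeo Scheme.fppfPrecoverage f) :
    AlgSt.IsUnivHomeo Scheme.fppfPrecoverage g := by
  intro 𝒵 h𝒵 z
  have h1 := K735.Univ.isHomeomorph_map_of_isEquivOver (isEquivOver_fpCongrR z e)
  have h2 : AlgSt.Points.map (FibCat.fpFst z g) =
      AlgSt.Points.map (FibCat.fpFst z f) ∘ AlgSt.Points.map (fpCongrR z e) := by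
    funext w
    rw [Function.comp_apply, ← K735.Pts.map_comp, fpCongrR_fst]
  rw [h2]
  exact (h 𝒵 h𝒵 z).comp h1

theorem univClosed_of_univHomeo {f : 𝒳 ⥤ᵇ 𝒴} (h : AlgSt.IsUnivHomeo Scheme.fppfPrecoverage f) :
    AlgSt.IsUnivClosed Scheme.fppfPrecoverage f := fun 𝒵 h𝒵 z => (h 𝒵 h𝒵 z).isClosedMap

theorem univInjective_of_univHomeo {f : 𝒳 ⥤ᵇ 𝒴} (h : AlgSt.IsUnivHomeo Scheme.fppfPrecoverage f) :
    AlgSt.IsUnivInjective Scheme.fppfPrecoverage f := fun 𝒵 h𝒵 z => (h 𝒵 h𝒵 z).injective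

theorem surjective_of_univHomeo (hM : AlgSp.IsAlgSpace M) {π : 𝒳 ⥤ᵇ AlgSt.ofSp M}
    (h : AlgSt.IsUnivHomeo Scheme.fppfPrecoverage π) : Function.Surjective (AlgSt.Points.map π) :=
  (K736.KM.isHomeomorph_of_isUnivHomeo hM π h).surjective

/-- A universal homeomorphism to an algebraic space is bijective on geometric points modulo isomorphism. -/
theorem geomPtBij_of_isUnivHomeo (h𝒳 : Alg 𝒳) (hM : AlgSp.IsAlgSpace M) {π : 𝒳 ⥤ᵇ AlgSt.ofSp M}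
    (h : AlgSt.IsUnivHomeo Scheme.fppfPrecoverage π) : AlgSt.GeomPtBij π := by
  have hMS : Alg (AlgSt.ofSp M) := K740.SpDM.isAlgStack_ofSp hM
  have hd := (Groth.Agent.S12831.result h𝒳 hMS π).1 (univInjective_of_univHomeo h)
  refine K746.GeomBij.geomPtBij_of h𝒳.isStack.1 ?_ ?_
  · intro Ω _ _ t m
    obtain ⟨x, φ, hx, hφ⟩ := Groth.Agent.S12833.result h𝒳 hMS π hd Ω t
      (⟨Over.mk t, m⟩ : (AlgSt.ofSp M).obj) rfl (surjective_of_univHomeo hM h _)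
    exact ⟨x, hx, eq_of_vert (IsVert.of_lift hφ)⟩
  · intro Ω _ _ t x y hx hy hxy
    obtain ⟨α, hα, -⟩ := (Groth.Agent.S12832.result h𝒳 hMS π).1 hd Ω t x y hx hy (eqToHom hxy) (by
      have h1 : IsVert (AlgSt.ofSp M) (eqToHom hxy) := IsVert.eqToHom _
      exact h1.lift ((π.w_obj _).trans hx))
    exact ⟨α, IsVert.of_lift hα⟩

end Homeo

/-- The Keel-Mori theorem as an interface. -/
def I16692 (S : Scheme.{u}) : Prop := ∀ (𝒳 : AlgSt.Cat S),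
    AlgSt.IsAlgStack Scheme.fppfPrecoverage 𝒳 →
    AlgSt.RepByAlgSpWith AlgSp.IsFiniteMor (FibCat.inertiaToBase (FibCat.toSelf 𝒳)) →
    ∃ (M : AlgSp.Sp S) (π : 𝒳 ⥤ᵇ AlgSt.ofSp M), AlgSt.IsUnifCatModuli π ∧ AlgSt.IsSeparatedMor π ∧
      AlgSt.IsQuasiCompactMor Scheme.fppfPrecoverage π ∧ AlgSt.IsUnivHomeo Scheme.fppfPrecoverage π

/-- Every categorical moduli space of a stack with finite inertia is a quasi-compact universal homeomorphism. -/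
theorem props (i : I16692 S) (h𝒳 : Alg 𝒳)
    (hI : AlgSt.RepByAlgSpWith AlgSp.IsFiniteMor (FibCat.inertiaToBase (FibCat.toSelf 𝒳)))
    (π : 𝒳 ⥤ᵇ AlgSt.ofSp M) (hπ : AlgSt.IsCatModuli π) :
    AlgSt.IsQuasiCompactMor Scheme.fppfPrecoverage π ∧ AlgSt.IsUnivHomeo Scheme.fppfPrecoverage π := by
  obtain ⟨M₀, π₀, h1, -, h3, h4⟩ := i 𝒳 h𝒳 hI
  obtain ⟨e, he⟩ := K746.exists_iso_of_isCatModuliIn h1.1 hπ
  obtain ⟨j⟩ := (K746.nonempty_iso_ofPsh_iff (Φ := BasedFunctor.comp π₀ (AlgSt.ofSpMap e.hom)) (Ψ := π)).2 he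
  have hM₀ : Alg (AlgSt.ofSp M₀) := K740.SpDM.isAlgStack_ofSp h1.1.1
  have hM : Alg (AlgSt.ofSp M) := K740.SpDM.isAlgStack_ofSp hπ.1
  refine ⟨?_, univHomeo_congr j (K736.ModIso.isUnivHomeo_post e π₀ h4)⟩
  refine cls_qc.congr h𝒳 hM j (cls_qc.comp h𝒳 hM₀ hM h3 ?_)
  exact cls_qc.of_equiv (fun h => qc_id h) hM₀ hM (K735.Rep.isEquivOver_ofSpMap_of_isIso e.hom)

section Sep

/-- the terminal sheaf -/
abbrev T0 (S : Scheme.{u}) : AlgSp.Sp S := (AlgSp.yon S).obj (Over.mk (𝟙 S))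

theorem isAlgSpace_T0 : AlgSp.IsAlgSpace (T0 S) := AlgSp.IsAlgSpace.yon_obj _

noncomputable def toT0 (M : AlgSp.Sp S) : M ⟶ T0 S := (K596.QC2.isTerminalYon S).from M

theorem repByAlgSpWith_toT0_iff (Q : MorphismProperty (AlgSp.Sp S)) [Q.RespectsIso]
    (h : AlgSt.RepByAlgSpWith Q (AlgSt.ofSpMap (toT0 M))) : Q (toT0 M) :=
  ((K735.SpFp.repByAlgSpWith_ofSpMap_iff Q (toT0 M)).1 h (𝟙 _) (toT0 M) (𝟙 M) (IsPullback.of_vert_isIso
    ⟨by rw [Category.comp_id, Category.id_comp]⟩)).2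

theorem repByAlgSp1_toT0 (hM : AlgSp.IsAlgSpace M) : AlgSt.RepByAlgSp1 (AlgSt.ofSpMap (toT0 M)) := by
  rw [K735.Rep.repByAlgSp1_iff_top, K735.SpFp.repByAlgSpWith_ofSpMap_iff]
  intro T P g fst snd sq
  exact ⟨K613.Chart.isAlgSpace_of_isPullback isAlgSpace_T0.diag (AlgSp.IsAlgSpace.yon_obj T) hM sq, trivial⟩

theorem repByAlgSp1_diag (hM : AlgSp.IsAlgSpace M) : AlgSt.RepByAlgSp1 (FibCat.diag (AlgSt.ofSpMap (toT0 M))) := by
  have h1 := (K735.Rep.repByAlgSp1_iff_top _).1 (repByAlgSp1_toT0 hM)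
  rw [K735.Rep.repByAlgSp1_iff_top]
  exact K738.repByAlgSpWith_diag_of (P := ⊤) (Q := ⊤) h1 (fun _ _ _ _ _ _ _ _ => trivial)

theorem isSeparatedSp_T0 : AlgSp.IsSeparatedSp (T0 S) := by
  refine (AlgSp.repWith_diag_yon_iff _ _).2 ?_
  change IsClosedImmersion (pullback.diagonal (𝟙 S))
  infer_instance

theorem isSeparatedSp_of_toT0 (h : AlgSp.IsSeparatedMor (toT0 M)) : AlgSp.IsSeparatedSp M :=
  K608.SepAbs.isSeparatedSp_of_isSeparatedMor _ h isSeparatedSp_T0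

theorem isQuasiSeparatedSp_of_toT0 (h : AlgSp.IsQuasiSeparatedMor (toT0 M)) : AlgSp.IsQuasiSeparatedSp M := by
  unfold AlgSp.IsQuasiSeparatedSp
  rw [K608.SepAbs.diag_eq (toT0 M)]
  have h1 : AlgSp.RepWith @QuasiCompact (Limits.diag (T0 S)) := by
    refine (AlgSp.repWith_diag_yon_iff _ _).2 ?_
    change QuasiCompact (pullback.diagonal (𝟙 S))
    infer_instance
  exact (AlgSp.RepWith @QuasiCompact).comp_mem _ _ h
    (MorphismProperty.of_isPullback (P := AlgSp.RepWith @QuasiCompact) (K608.SepAbs.isPullback_toProd (toT0 M)) h1)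

theorem isSeparatedSp (h𝒳 : Alg 𝒳) (hM : AlgSp.IsAlgSpace M) (π : 𝒳 ⥤ᵇ AlgSt.ofSp M)
    (hπ : AlgSt.IsUnivHomeo Scheme.fppfPrecoverage π) (hs : AlgSt.IsSeparatedOver 𝒳) : AlgSp.IsSeparatedSp M := by
  have hMS : Alg (AlgSt.ofSp M) := K740.SpDM.isAlgStack_ofSp hM
  have hTS : Alg (AlgSt.ofSp (T0 S)) := K740.SpDM.isAlgStack_ofSp isAlgSpace_T0
  let q : AlgSt.ofSp M ⥤ᵇ AlgSt.ofSp (T0 S) := AlgSt.ofSpMap (toT0 M)
  have h1 : AlgSt.IsSeparatedMor (BasedFunctor.comp π q) :=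
    K746.isSeparatedMor_of_isSeparatedOver (M := ⟨T0 S, isAlgSpace_T0⟩) h𝒳.isStack.1 hs _
  have a1 := K746.UHomeo.alg_fp h𝒳 h𝒳 hTS (BasedFunctor.comp π q) (BasedFunctor.comp π q)
  have h2 : AlgSt.IsUnivClosed Scheme.fppfPrecoverage (FibCat.diag (BasedFunctor.comp π q)) :=
    (Groth.Agent.S12828.result h𝒳 a1 _ (K738.repByAlgSp1_of h1)).1 (K738.repByAlgSpWith_mono h1 fun _ h => h.2.2)
  have h3 := cls_univClosed.diag (fun h => univClosed_id h) h𝒳 hMS hTS q (surjective_of_univHomeo hM hπ)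
    (univClosed_of_univHomeo hπ) h2
  have a2 := K746.UHomeo.alg_fp hMS hMS hTS q q
  have h4 := (Groth.Agent.S12828.result hMS a2 (FibCat.diag q) (repByAlgSp1_diag hM)).2 h3
  have h5 : AlgSt.RepByAlgSpWith AlgSp.IsSeparatedMor q :=
    ((K738.tfae_separated (repByAlgSp1_toT0 hM)).out 3 0 rfl rfl).1 h4
  exact isSeparatedSp_of_toT0 (repByAlgSpWith_toT0_iff AlgSp.IsSeparatedMor h5)

theorem isQuasiSeparatedSp (h𝒳 : Alg 𝒳) (hM : AlgSp.IsAlgSpace M) (π : 𝒳 ⥤ᵇ AlgSt.ofSp M)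
    (hπ : AlgSt.IsUnivHomeo Scheme.fppfPrecoverage π) (hπq : AlgSt.IsQuasiCompactMor Scheme.fppfPrecoverage π)
    (hs : AlgSt.IsQuasiSeparatedOver 𝒳) : AlgSp.IsQuasiSeparatedSp M := by
  have hMS : Alg (AlgSt.ofSp M) := K740.SpDM.isAlgStack_ofSp hM
  have hTS : Alg (AlgSt.ofSp (T0 S)) := K740.SpDM.isAlgStack_ofSp isAlgSpace_T0
  let q : AlgSt.ofSp M ⥤ᵇ AlgSt.ofSp (T0 S) := AlgSt.ofSpMap (toT0 M)
  have h0 := K746.isSeparatedMor_diag_ofSch (S := S) ⟨T0 S, isAlgSpace_T0⟩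
  have h1 : AlgSt.RepByAlgSpWith (K739.Props.Qcqs S) (FibCat.diag (BasedFunctor.comp π q)) :=
    K739.Alg.repByAlgSpWith_diag_of_toSelf (K739.Rep.isoInv_of_baseChange _ K739.Props.bc_qcqs)
      (K739.Rep.isoInv_of_baseChange _ K739.Props.bc_qs) K739.Props.bc_qcqs K739.Props.cancel_qcqs h𝒳.isStack.1
      hTS.isStack.1 _ hs (K738.repByAlgSpWith_mono h0 fun _ h => K739.Props.qs_of_sep h)
  have a1 := K746.UHomeo.alg_fp h𝒳 h𝒳 hTS (BasedFunctor.comp π q) (BasedFunctor.comp π q)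
  have h2 : AlgSt.IsQuasiCompactMor Scheme.fppfPrecoverage (FibCat.diag (BasedFunctor.comp π q)) :=
    (Groth.Agent.S12981.result S _ _ h𝒳 a1 _ (K738.repByAlgSp1_of h1)).1 (K738.repByAlgSpWith_mono h1 fun _ h => h.1)
  have h3 := cls_qc.diag (fun h => qc_id h) h𝒳 hMS hTS q (surjective_of_univHomeo hM hπ) hπq h2
  have a2 := K746.UHomeo.alg_fp hMS hMS hTS q q
  have h4 := (Groth.Agent.S12981.result S _ _ hMS a2 (FibCat.diag q) (repByAlgSp1_diag hM)).2 h3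
  have h5 : AlgSt.RepByAlgSpWith AlgSp.IsQuasiSeparatedMor q :=
    ((K738.tfae_quasiSeparated (repByAlgSp1_toT0 hM)).out 1 0 rfl rfl).1 h4
  exact isQuasiSeparatedSp_of_toT0 (repByAlgSpWith_toT0_iff AlgSp.IsQuasiSeparatedMor h5)

end Sep

section Rows

/-- S16706 from S16692. -/
theorem main16706 (i : I16692 S) (𝒳 : AlgSt.Cat S) (h𝒳 : AlgSt.IsAlgStack Scheme.fppfPrecoverage 𝒳)
    (hI : AlgSt.RepByAlgSpWith AlgSp.IsFiniteMor (FibCat.inertiaToBase (FibCat.toSelf 𝒳)))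
    (M : AlgSp.Sp S) (π : 𝒳 ⥤ᵇ AlgSt.ofSp M) (hπ : AlgSt.IsCatModuli π) : AlgSt.GeomPtBij π :=
  geomPtBij_of_isUnivHomeo h𝒳 hπ.1 (props i h𝒳 hI π hπ).2

/-- S16695 from S16692. -/
theorem main16695 (i : I16692 S) (𝒳 : AlgSt.Cat S) (h𝒳 : AlgSt.IsAlgStack Scheme.fppfPrecoverage 𝒳)
    (hI : AlgSt.RepByAlgSpWith AlgSp.IsFiniteMor (FibCat.inertiaToBase (FibCat.toSelf 𝒳)))
    (M : AlgSp.Sp S) (π : 𝒳 ⥤ᵇ AlgSt.ofSp M) (hπ : AlgSt.IsCatModuli π)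
    (hs : AlgSt.IsSeparatedOver 𝒳) : AlgSp.IsSeparatedSp M :=
  isSeparatedSp h𝒳 hπ.1 π (props i h𝒳 hI π hπ).2 hs

/-- S16694 from S16692. -/
theorem main16694 (i : I16692 S) (𝒳 : AlgSt.Cat S) (h𝒳 : AlgSt.IsAlgStack Scheme.fppfPrecoverage 𝒳)
    (hI : AlgSt.RepByAlgSpWith AlgSp.IsFiniteMor (FibCat.inertiaToBase (FibCat.toSelf 𝒳)))
    (M : AlgSp.Sp S) (π : 𝒳 ⥤ᵇ AlgSt.ofSp M) (hπ : AlgSt.IsCatModuli π)
    (hs : AlgSt.IsQuasiSeparatedOver 𝒳) : AlgSp.IsQuasiSeparatedSp M :=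
  isQuasiSeparatedSp h𝒳 hπ.1 π (props i h𝒳 hI π hπ).2 (props i h𝒳 hI π hπ).1 hs

end Rows

end K608.KMGeom
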