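import Groth.Agent.AlgSt.K746.UHomeo
import Groth.Agent.AlgSt.K742.QC2

/-!
# Classes of morphisms of algebraic stacks stable under base change, composition, with cancellation of surjections

`Cls P`: the class `P` is invariant under 2-isomorphism, stable under composition and base change, and
`P (f ⋙ g)` with `f` surjective implies `P g`.  Examples: universally closed, quasi-compact.
`Cls.diag`: if `π` is surjective and in `P` and the diagonal of `π ⋙ q` is in `P`, then so is the diagonal of `q`.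
-/

set_option autoImplicit false
set_option backward.isDefEq.respectTransparency false
set_option backward.isDefEq.respectTransparency.types false

universe u

open CategoryTheory CategoryTheory.Limits AlgebraicGeometry Opposite
open K734.Fib

namespace K608.KMCls

variable {S : Scheme.{u}} {𝒳 𝒴 𝒵 : AlgSt.Cat S}

abbrev Alg (𝒳 : AlgSt.Cat S) : Prop := AlgSt.IsAlgStack Scheme.fppfPrecoverage 𝒳

/-- A class of morphisms of algebraic stacks with the usual permanence properties. -/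
structure Cls (P : ∀ {𝒳 𝒴 : AlgSt.Cat S}, (𝒳 ⥤ᵇ 𝒴) → Prop) : Prop where
  congr : ∀ {𝒳 𝒴 : AlgSt.Cat S} {f g : 𝒳 ⥤ᵇ 𝒴}, Alg 𝒳 → Alg 𝒴 → (f ≅ g) → P f → P g
  comp : ∀ {𝒳 𝒴 𝒵 : AlgSt.Cat S} {f : 𝒳 ⥤ᵇ 𝒴} {g : 𝒴 ⥤ᵇ 𝒵}, Alg 𝒳 → Alg 𝒴 → Alg 𝒵 → P f → P g →
    P (BasedFunctor.comp f g)
  bc : ∀ {𝒳 𝒴 𝒵 : AlgSt.Cat S} {f : 𝒳 ⥤ᵇ 𝒴} (g : 𝒵 ⥤ᵇ 𝒴), Alg 𝒳 → Alg 𝒴 → Alg 𝒵 → P f → P (FibCat.fpFst g f)
  cancel : ∀ {𝒳 𝒴 𝒵 : AlgSt.Cat S} {f : 𝒳 ⥤ᵇ 𝒴} {g : 𝒴 ⥤ᵇ 𝒵}, Alg 𝒳 → Alg 𝒴 → Alg 𝒵 →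
    Function.Surjective (AlgSt.Points.map f) → P (BasedFunctor.comp f g) → P g

theorem surj_of_equiv {f : 𝒳 ⥤ᵇ 𝒴} (h : FibCat.IsEquivOver f) : Function.Surjective (AlgSt.Points.map f) :=
  (K735.Univ.isHomeomorph_map_of_isEquivOver h).surjective

theorem fpPreR_iso {𝒮 : AlgSt.Cat S} (F : 𝒳 ⥤ᵇ 𝒮) (b : 𝒵 ⥤ᵇ 𝒴) (G : 𝒴 ⥤ᵇ 𝒮)
    (z : (FibCat.fp F (BasedFunctor.comp b G)).obj) : ((fpPreR F b G).obj z).obj.iso = z.obj.iso := by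
  ext
  change 𝟙 _ ≫ z.obj.iso.hom ≫ 𝟙 _ = z.obj.iso.hom
  rw [Category.id_comp, Category.comp_id]

theorem fpPreL_iso {𝒮 : AlgSt.Cat S} (a : 𝒵 ⥤ᵇ 𝒳) (F : 𝒳 ⥤ᵇ 𝒮) (G : 𝒴 ⥤ᵇ 𝒮)
    (z : (FibCat.fp (BasedFunctor.comp a F) G).obj) : ((fpPreL a F G).obj z).obj.iso = z.obj.iso := by
  ext
  change 𝟙 _ ≫ z.obj.iso.hom ≫ 𝟙 _ = z.obj.iso.hom
  rw [Category.id_comp, Category.comp_id]

/-- Composition with the swap on both sides. -/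
def fpPreLIso {𝒮 : AlgSt.Cat S} (a : 𝒵 ⥤ᵇ 𝒳) (F : 𝒳 ⥤ᵇ 𝒮) (G : 𝒴 ⥤ᵇ 𝒮) :
    BasedFunctor.comp (fpSwap (BasedFunctor.comp a F) G) (BasedFunctor.comp (fpPreR G a F) (fpSwap G F)) ≅
      fpPreL a F G :=
  liftExt (Iso.refl _) (Iso.refl _) (fun x => by
    simp only [refl_app, Iso.refl_hom]
    erw [F.map_id, G.map_id, Category.id_comp, Category.comp_id]
    have h1 := congrArg (fun i => i.hom) (fpPreL_iso a F G x)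
    have h2 := congrArg (fun i => i.inv) (fpPreR_iso G a F ((fpSwap (BasedFunctor.comp a F) G).obj x))
    exact h1.trans h2.symm)

def fpPreRIso {𝒮 : AlgSt.Cat S} (F : 𝒳 ⥤ᵇ 𝒮) (G : 𝒴 ⥤ᵇ 𝒮) (b : 𝒵 ⥤ᵇ 𝒴) :
    FibCat.fpFst (FibCat.fpSnd F G) b ≅ BasedFunctor.comp (fpComp F G b) (fpPreR F b G) :=
  liftExt (Iso.refl _) (FibCat.fpIso (FibCat.fpSnd F G) b) (fun x => by
    simp only [refl_app, Iso.refl_hom]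
    erw [F.map_id, Category.id_comp]
    exact congrArg (fun i => i.hom) (fpPreR_iso F b G ((fpComp F G b).obj x)))

variable {P : ∀ {𝒳 𝒴 : AlgSt.Cat S}, (𝒳 ⥤ᵇ 𝒴) → Prop}

theorem Cls.fpPreR (hP : Cls P) {𝒮 : AlgSt.Cat S} (h𝒳 : Alg 𝒳) (h𝒴 : Alg 𝒴) (h𝒵 : Alg 𝒵) (h𝒮 : Alg 𝒮)
    (F : 𝒳 ⥤ᵇ 𝒮) {b : 𝒵 ⥤ᵇ 𝒴} (hb : P b) (G : 𝒴 ⥤ᵇ 𝒮) : P (fpPreR F b G) := by
  have a1 := K746.UHomeo.alg_fp h𝒳 h𝒴 h𝒮 F G
  have a2 := K746.UHomeo.alg_fp a1 h𝒵 h𝒴 (FibCat.fpSnd F G) b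
  have a3 := K746.UHomeo.alg_fp h𝒳 h𝒵 h𝒮 F (BasedFunctor.comp b G)
  exact hP.cancel a2 a3 a1 (surj_of_equiv (isEquivOver_fpComp F G b))
    (hP.congr a2 a1 (fpPreRIso F G b) (hP.bc (FibCat.fpSnd F G) h𝒵 h𝒴 a1 hb))

theorem Cls.of_equiv (hP : Cls P) (hid : ∀ {𝒳 : AlgSt.Cat S}, Alg 𝒳 → P (BasedFunctor.id 𝒳)) (h𝒳 : Alg 𝒳) (h𝒴 : Alg 𝒴)
    {f : 𝒳 ⥤ᵇ 𝒴} (h : FibCat.IsEquivOver f) : P f := by
  obtain ⟨g, hg, ⟨a⟩, ⟨b⟩⟩ := exists_inverse h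
  exact hP.cancel h𝒴 h𝒳 h𝒴 (surj_of_equiv hg) (hP.congr h𝒴 h𝒴 b.symm (hid h𝒴))

theorem Cls.fpPreL (hP : Cls P) (hid : ∀ {𝒳 : AlgSt.Cat S}, Alg 𝒳 → P (BasedFunctor.id 𝒳)) {𝒮 : AlgSt.Cat S}
    (h𝒳 : Alg 𝒳) (h𝒴 : Alg 𝒴) (h𝒵 : Alg 𝒵) (h𝒮 : Alg 𝒮)
    {a : 𝒵 ⥤ᵇ 𝒳} (ha : P a) (F : 𝒳 ⥤ᵇ 𝒮) (G : 𝒴 ⥤ᵇ 𝒮) : P (fpPreL a F G) := by
  have a1 := K746.UHomeo.alg_fp h𝒵 h𝒴 h𝒮 (BasedFunctor.comp a F) G
  have a2 := K746.UHomeo.alg_fp h𝒴 h𝒵 h𝒮 G (BasedFunctor.comp a F)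
  have a3 := K746.UHomeo.alg_fp h𝒴 h𝒳 h𝒮 G F
  have a4 := K746.UHomeo.alg_fp h𝒳 h𝒴 h𝒮 F G
  exact hP.congr a1 a4 (fpPreLIso a F G) (hP.comp a1 a2 a4 (hP.of_equiv hid a1 a2 (isEquivOver_fpSwap _ _))
    (hP.comp a2 a3 a4 (hP.fpPreR h𝒴 h𝒳 h𝒵 h𝒮 G ha F) (hP.of_equiv hid a3 a4 (isEquivOver_fpSwap _ _))))

def diagIso {𝒮 : AlgSt.Cat S} (π : 𝒳 ⥤ᵇ 𝒴) (q : 𝒴 ⥤ᵇ 𝒮) :
    BasedFunctor.comp (FibCat.diag (BasedFunctor.comp π q)) (BasedFunctor.comp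
      (K734.Fib.fpPreL π q (BasedFunctor.comp π q)) (K734.Fib.fpPreR q π q)) ≅
      BasedFunctor.comp π (FibCat.diag q) :=
  liftExt (Iso.refl _) (Iso.refl _) (fun x => by
    simp only [refl_app, Iso.refl_hom]
    erw [q.map_id]
    have h1 := congrArg (fun i => i.hom) (fpPreL_iso π q (BasedFunctor.comp π q)
      ((FibCat.diag (BasedFunctor.comp π q)).obj x))
    have h2 := congrArg (fun i => i.hom) (fpPreR_iso q π q ((K734.Fib.fpPreL π q (BasedFunctor.comp π q)).obj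
      ((FibCat.diag (BasedFunctor.comp π q)).obj x)))
    have h3 := h2.trans h1
    refine Eq.trans (congrArg (fun t => 𝟙 _ ≫ t) (?_ : _ = 𝟙 _)) (congrArg (fun t => t ≫ 𝟙 _) (h3.trans ?_).symm)
    · rfl
    · rfl)

/-- If `π` is surjective and in `P` and the diagonal of `π ⋙ q` is in `P` then the diagonal of `q` is in `P`. -/
theorem Cls.diag (hP : Cls P) (hid : ∀ {𝒳 : AlgSt.Cat S}, Alg 𝒳 → P (BasedFunctor.id 𝒳)) {𝒮 : AlgSt.Cat S}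
    (h𝒳 : Alg 𝒳) (h𝒴 : Alg 𝒴) (h𝒮 : Alg 𝒮) {π : 𝒳 ⥤ᵇ 𝒴} (q : 𝒴 ⥤ᵇ 𝒮) (hs : Function.Surjective (AlgSt.Points.map π))
    (hπ : P π) (hd : P (FibCat.diag (BasedFunctor.comp π q))) : P (FibCat.diag q) := by
  have a1 := K746.UHomeo.alg_fp h𝒳 h𝒳 h𝒮 (BasedFunctor.comp π q) (BasedFunctor.comp π q)
  have a2 := K746.UHomeo.alg_fp h𝒴 h𝒳 h𝒮 q (BasedFunctor.comp π q)
  have a3 := K746.UHomeo.alg_fp h𝒴 h𝒴 h𝒮 q q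
  exact hP.cancel h𝒳 h𝒴 a3 hs (hP.congr h𝒳 a3 (diagIso π q) (hP.comp h𝒳 a1 a3 hd
    (hP.comp a1 a2 a3 (hP.fpPreL hid h𝒴 h𝒳 h𝒳 h𝒮 hπ q _) (hP.fpPreR h𝒴 h𝒴 h𝒳 h𝒮 q hπ q))))

/-- Universally closed morphisms. -/
theorem cls_univClosed : Cls (S := S) (fun {_ _} f => AlgSt.IsUnivClosed Scheme.fppfPrecoverage f) where
  congr := by
    intro 𝒳 𝒴 f g h𝒳 h𝒴 e h 𝒵 h𝒵 z
    have h1 := K735.Univ.isHomeomorph_map_of_isEquivOver (isEquivOver_fpCongrR z e)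
    have h2 : AlgSt.Points.map (FibCat.fpFst z g) =
        AlgSt.Points.map (FibCat.fpFst z f) ∘ AlgSt.Points.map (fpCongrR z e) := by
      funext w
      rw [Function.comp_apply, ← K735.Pts.map_comp, fpCongrR_fst]
    rw [h2]
    exact (h 𝒵 h𝒵 z).comp h1.isClosedMap
  comp := by
    intro 𝒳 𝒴 𝒵 f g h𝒳 h𝒴 h𝒵 hf hg 𝒲 h𝒲 z
    have e2 := K735.Univ.isHomeomorph_map_of_isEquivOver (isEquivOver_fpComp z g f)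
    have e3 : AlgSt.Points.map (FibCat.fpFst z (BasedFunctor.comp f g)) ∘ AlgSt.Points.map (fpComp z g f) =
        AlgSt.Points.map (FibCat.fpFst z g) ∘ AlgSt.Points.map (FibCat.fpFst (FibCat.fpSnd z g) f) := by
      funext w
      rw [Function.comp_apply, Function.comp_apply, ← K735.Pts.map_comp, ← K735.Pts.map_comp, fpComp_fst']
    refine K746.UHomeo.isClosedMap_of_surj e2.continuous e2.surjective ?_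
    rw [e3]
    exact (hg 𝒲 h𝒲 z).comp (hf _ (K746.UHomeo.alg_fp h𝒲 h𝒴 h𝒵 z g) (FibCat.fpSnd z g))
  bc := by
    intro 𝒳 𝒴 𝒵 f g h𝒳 h𝒴 h𝒵 hf 𝒲 h𝒲 z
    have e2 := K735.Univ.isHomeomorph_map_of_isEquivOver (isEquivOver_fpPaste z g f)
    refine K746.UHomeo.isClosedMap_of_surj e2.continuous e2.surjective ?_
    have e3 : AlgSt.Points.map (FibCat.fpFst z (FibCat.fpFst g f)) ∘ AlgSt.Points.map (fpPaste z g f) =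
        AlgSt.Points.map (FibCat.fpFst (BasedFunctor.comp z g) f) := by
      funext w
      rw [Function.comp_apply, ← K735.Pts.map_comp, fpPaste_fst]
    rw [e3]
    exact hf 𝒲 h𝒲 _
  cancel := by
    intro 𝒳 𝒴 𝒵 f g h𝒳 h𝒴 h𝒵 hs h 𝒲 h𝒲 z
    have a1 := K746.UHomeo.alg_fp h𝒲 h𝒴 h𝒵 z g
    have e2 := K735.Univ.isHomeomorph_map_of_isEquivOver (isEquivOver_fpComp z g f)
    have e3 : AlgSt.Points.map (FibCat.fpFst z g) ∘ AlgSt.Points.map (FibCat.fpFst (FibCat.fpSnd z g) f) =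
        AlgSt.Points.map (FibCat.fpFst z (BasedFunctor.comp f g)) ∘ AlgSt.Points.map (fpComp z g f) := by
      funext w
      rw [Function.comp_apply, Function.comp_apply, ← K735.Pts.map_comp, ← K735.Pts.map_comp, fpComp_fst']
    refine K746.UHomeo.isClosedMap_of_surj (a := AlgSt.Points.map (FibCat.fpFst (FibCat.fpSnd z g) f))
      (K735.Top.continuous_map (K735.Top.chartCont_of_isAlgStack a1) _)
      (K735.Pts.surjective_fpFst h𝒳.isStack.1 a1.isStack.1 h𝒴.isStack.1 _ _ hs) ?_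
    rw [e3]
    exact (h 𝒲 h𝒲 z).comp e2.isClosedMap

theorem univClosed_id (h𝒳 : Alg 𝒳) : AlgSt.IsUnivClosed Scheme.fppfPrecoverage (BasedFunctor.id 𝒳) := by
  intro 𝒵 h𝒵 z
  exact (K735.Univ.isHomeomorph_map_of_isEquivOver (isEquivOver_fpFst_id z)).isClosedMap

/-- Quasi-compact morphisms. -/
theorem cls_qc : Cls (S := S) (fun {_ _} f => AlgSt.IsQuasiCompactMor Scheme.fppfPrecoverage f) where
  congr := by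
    intro 𝒳 𝒴 f g h𝒳 h𝒴 e h 𝒵 h𝒵 hq z
    exact K742.QC.isQuasiCompact_of_isEquivOver (K746.UHomeo.alg_fp h𝒵 h𝒳 h𝒴 z f)
      (K746.UHomeo.alg_fp h𝒵 h𝒳 h𝒴 z g) (fpCongrR z e.symm) (isEquivOver_fpCongrR z e.symm) (h 𝒵 h𝒵 hq z)
  comp := fun h𝒳 h𝒴 h𝒵 hf hg => K742.QC.isQuasiCompactMor_comp h𝒳 h𝒴 h𝒵 _ _ hf hg
  bc := fun g h𝒳 h𝒴 h𝒵 hf => K742.QC.isQuasiCompactMor_fpFst h𝒳 h𝒴 h𝒵 _ g hf
  cancel := fun h𝒳 h𝒴 h𝒵 hs h =>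
    K742.QC.isQuasiCompactMor_of_isSurjective_of_triangle h𝒳 h𝒴 h𝒵 _ _ _ (Iso.refl _) hs h

theorem qc_id (h𝒳 : Alg 𝒳) : AlgSt.IsQuasiCompactMor Scheme.fppfPrecoverage (BasedFunctor.id 𝒳) := by
  intro 𝒵 h𝒵 hq z
  obtain ⟨g, hg, -, -⟩ := exists_inverse (isEquivOver_fpFst_id z)
  exact K742.QC.isQuasiCompact_of_isEquivOver h𝒵 (K746.UHomeo.alg_fp h𝒵 h𝒳 h𝒳 z _) g hg hq

end K608.KMCls
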