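import Groth.Agent.AlgSt.K746.FlatBC
import Mathlib.RingTheory.Adjoin.Tower
import Mathlib.RingTheory.FiniteType
import Mathlib.AlgebraicGeometry.Morphisms.FiniteType
import Mathlib.AlgebraicGeometry.Morphisms.Integral
import Mathlib.AlgebraicGeometry.Noetherian

/-!
# Descent of finite type along integral injections (Artin-Tate), after flat base change
-/

set_option autoImplicit false
universe u
open CategoryTheory CategoryTheory.Limits AlgebraicGeometry TopologicalSpace

open TensorProduct

namespace K608.KMFin

/-- Artin-Tate. -/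
theorem finiteType_of_integral {B C A : Type u} [CommRing B] [CommRing C] [CommRing A] [IsNoetherianRing B]
    (f : B →+* C) (g : C →+* A) (hg : g.IsIntegral) (hi : Function.Injective g) (h : (g.comp f).FiniteType) :
    f.FiniteType := by
  have h1 : g.Finite := RingHom.IsIntegral.to_finite hg (RingHom.FiniteType.of_comp_finiteType h)
  algebraize [f, g, g.comp f]
  have h2 : Module.Finite C A := h1
  have h3 : Algebra.FiniteType B A := h
  have h4 := fg_of_fg_of_fg B C A h3.1 h2.1 hi
  exact (⟨h4⟩ : Algebra.FiniteType B C)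

/-- flat base change of an injection of rings, in terms of pushout squares -/
theorem injective_of_isPushout {C C' A A' : CommRingCat.{u}} (γ : C ⟶ A) (κ : C ⟶ C') (a : A ⟶ A')
    (c : C' ⟶ A') (hA : IsPushout γ κ a c) (hκ : κ.hom.Flat) (inj : Function.Injective γ) : Function.Injective c := by
  algebraize [κ.hom, γ.hom]
  let eA := (CommRingCat.isPushout_tensorProduct C C' A).flip.isoIsPushout _ _ hA
  have eAl : ∀ x : C', eA.hom (x ⊗ₜ[C] (1 : A)) = c x := fun x =>
    congr($((CommRingCat.isPushout_tensorProduct C C' A).flip.inr_isoIsPushout_hom _ _ hA) x)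
  have eAinj : Function.Injective eA.hom := (ConcreteCategory.bijective_of_isIso eA.hom).1
  intro x y hxy
  rw [← eAl, ← eAl] at hxy
  exact Groth.Agent.Grpsch.AffGrpd.flat_inj_aux (C := C) (C' := C') (A := A) inj (eAinj hxy)

theorem lft_affine {U N W V P : Scheme.{u}} [IsAffine U] [IsAffine N] [IsAffine W] [IsAffine V]
    [IsLocallyNoetherian V] (p : U ⟶ N) (w : W ⟶ N) (v : W ⟶ V) {a : P ⟶ U} {b : P ⟶ W}
    (sq : IsPullback a b p w) [IsIntegralHom p] (hp : Function.Injective p.appTop) [Flat w]
    (h : LocallyOfFiniteType (b ≫ v)) : LocallyOfFiniteType v := by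
  have hPa : IsAffine P := IsAffine.of_isIso sq.isoPullback.hom
  have hb : IsIntegralHom b := MorphismProperty.of_isPullback sq ‹_›
  have hpush := isPushout_appTop_of_isPullback sq
  have hinj := injective_of_isPushout p.appTop w.appTop a.appTop b.appTop hpush (K746.FlatBC.flat_appTop w) hp
  have h1 : b.appTop.hom.IsIntegral := hb.isIntegral_app ⊤ (isAffineOpen_top W)
  have h2 : (b ≫ v).appTop.hom.FiniteType :=
    (HasRingHomProperty.iff_of_isAffine (P := @LocallyOfFiniteType) (f := b ≫ v)).1 h
  rw [Scheme.Hom.comp_appTop] at h2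
  have : IsNoetherianRing Γ(V, ⊤) := IsLocallyNoetherian.component_noetherian ⟨⊤, isAffineOpen_top V⟩
  exact (HasRingHomProperty.iff_of_isAffine (P := @LocallyOfFiniteType) (f := v)).2
    (finiteType_of_integral _ _ h1 hinj h2)

end K608.KMFin
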