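import Groth.Agent.AlgSt.K608.KMGeom
import Groth.Agent.AlgSt.K608.KMFin
import Groth.Agent.AlgSt.K742.EvQ3
import Groth.Agent.AlgSt.K742.LN
import Groth.Agent.AlgSt.K741.OfSp
import Groth.Agent.Gerb.K894.SmST
import Groth.Agent.AlgSp.K621.Base
import Groth.Prelude.Def_StGerb2
import Groth.Prelude.Def_W4stkstmodspWNA

/-!
# The moduli space of a stack locally of finite type over a locally Noetherian algebraic space

`main16693`: S16693 from S16692 (Keel-Mori), S16696 (cartesian squares of moduli spaces) and S16703 (well-nigh affine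
étale neighbourhoods).
-/

set_option autoImplicit false
set_option backward.isDefEq.respectTransparency false
set_option backward.isDefEq.respectTransparency.types false

universe u

open CategoryTheory CategoryTheory.Limits AlgebraicGeometry Opposite
open K734.Fib

namespace K608.KMLft

open K608.KMCls K608.KMGeom

variable {S : Scheme.{u}} {𝒳 : AlgSt.Cat S} {M : AlgSp.Sp S}

/-- S16696 as an interface. -/
def I16696 (S : Scheme.{u}) : Prop := ∀ (𝒳 𝒳' : AlgSt.Cat S),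
    AlgSt.IsAlgStack Scheme.fppfPrecoverage 𝒳 →
    AlgSt.RepByAlgSpWith AlgSp.IsFiniteMor (FibCat.inertiaToBase (FibCat.toSelf 𝒳)) →
    AlgSt.IsAlgStack Scheme.fppfPrecoverage 𝒳' → ∀ (h : 𝒳' ⥤ᵇ 𝒳),
    AlgSt.RepByAlgSpWith AlgSp.IsEtaleMor h → AlgSt.IsSeparatedMor h →
    (∀ x' : 𝒳'.obj, Function.Bijective (Gerb.autMap h x')) →
    ∀ (M : AlgSp.Sp S) (π : 𝒳 ⥤ᵇ AlgSt.ofSp M), AlgSt.IsCatModuli π →
    ∀ (M' : AlgSp.Sp S) (π' : 𝒳' ⥤ᵇ AlgSt.ofSp M'), AlgSt.IsCatModuli π' →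
    ∃ (g : M' ⟶ M) (e : BasedFunctor.comp h π ≅ BasedFunctor.comp π' (AlgSt.ofSpMap g)),
      AlgSp.IsEtaleMor g ∧ AlgSp.IsSeparatedMor g ∧ FibCat.IsTwoCartOver h π' e

/-- S16703 as an interface. -/
def I16703 (S : Scheme.{u}) : Prop := ∀ (𝒳 : AlgSt.Cat S),
    AlgSt.IsAlgStack Scheme.fppfPrecoverage 𝒳 →
    AlgSt.RepByAlgSpWith AlgSp.IsFiniteMor (FibCat.inertiaToBase (FibCat.toSelf 𝒳)) → ∀ (x : AlgSt.Points 𝒳),
    ∃ (𝒳' : AlgSt.Cat S) (g : 𝒳' ⥤ᵇ 𝒳), x ∈ Set.range (AlgSt.Points.map g) ∧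
      AlgSt.IsAlgStack Scheme.fppfPrecoverage 𝒳' ∧ AlgSt.IsWellNighAffine 𝒳' ∧
      (∀ x' : 𝒳'.obj, Function.Bijective (Gerb.autMap g x')) ∧
      AlgSt.RepByAlgSpWith AlgSp.IsEtaleMor g ∧ AlgSt.IsSeparatedMor g

theorem unchart_eq {U : Over S} (x : FibCat.overCat U ⥤ᵇ AlgSt.ofSp M) (a : (AlgSp.yon S).obj U ⟶ M)
    (h : ∀ z, x.obj ((AlgSt.toOverCat U).obj z) = (AlgSt.ofSpMap a).obj z) : K735.SpFp.unchart x = a := by
  refine K746.eq_of_ofSpMap_obj fun z => ?_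
  obtain ⟨i⟩ := K735.Rep.exists_iso_spMap (BasedFunctor.comp (AlgSt.toOverCat U) x)
  exact (K734.Fib.obj_eq_of_iso i z).symm.trans (h z)

/-- The étale local structure of the moduli space. -/
theorem exists_nhd (i3 : I16703 S) (i6 : I16696 S) (h𝒳 : Alg 𝒳)
    (hI : AlgSt.RepByAlgSpWith AlgSp.IsFiniteMor (FibCat.inertiaToBase (FibCat.toSelf 𝒳)))
    (π : 𝒳 ⥤ᵇ AlgSt.ofSp M) (hπ : AlgSt.IsCatModuli π) (x : AlgSt.Points 𝒳) :
    ∃ (𝒳' : AlgSt.Cat S) (h : 𝒳' ⥤ᵇ 𝒳) (U N : Over S) (c : FibCat.overCat U ⥤ᵇ 𝒳') (p : U ⟶ N)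
      (g : (AlgSp.yon S).obj N ⟶ M) (u : U.left),
      Alg 𝒳' ∧ AlgSt.RepByAlgSpWith AlgSp.IsEtaleMor h ∧ AlgSt.RepByAlgSpWith (K746.WnaP S) c ∧ IsAffine U.left ∧
      IsAffine N.left ∧ IsIntegralHom p.left ∧ Function.Injective p.left.appTop ∧ AlgSp.IsEtaleMor g ∧
      K735.SpFp.unchart (BasedFunctor.comp (BasedFunctor.comp c h) π) = (AlgSp.yon S).map p ≫ g ∧
      AlgSt.Points.ofChart (BasedFunctor.comp c h) u = x := by
  obtain ⟨𝒳', h, ⟨x', hx'⟩, h𝒳', hw, haut, het, hsep⟩ := i3 𝒳 h𝒳 hI x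
  obtain ⟨U, c, hU, hc⟩ := hw
  have hs : AlgSt.RepByAlgSpWith AlgSp.IsSurjectiveMor c := K739.Alg.repByAlgSpWith_mono (fun _ _ _ h => h.1.1.1) hc
  have hls := K746.locSurj_of_wna h𝒳'.isStack.1 hc
  obtain ⟨R, G, hR, hG⟩ := K746.exists_chartRep h𝒳'.isStack.1 hU hc
  obtain ⟨N, π', p, hN, hp, hπ', hunif⟩ := K746.exists_moduli h𝒳'.isStack.1 hU hls G hG
  have hgood : K746.Good (G.toOGpd h𝒳'.isStack.1).toGpd := by
    have hUa : IsAffine (G.toOGpd h𝒳'.isStack.1).toGpd.U := hU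
    obtain ⟨_, _, _⟩ := hG
    exact K746.Good.of_isAffine
  have hint : IsIntegralHom p.left := hgood.isIntegralHom hp
  obtain ⟨g, e, hg, -, -⟩ := i6 𝒳 𝒳' h𝒳 hI h𝒳' h het hsep haut M π hπ _ π' hunif.1
  obtain ⟨u, hu⟩ := K736.QC.surjective_ofChart h𝒳' hs x'
  refine ⟨𝒳', h, U, N, c, p, g, u, h𝒳', het, hc, hU, hN, hint, hp.inj ⊤, hg, ?_, ?_⟩
  · refine unchart_eq _ _ fun z => ?_
    have h1 : π.obj (h.obj (c.obj ((AlgSt.toOverCat U).obj z))) =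
        (AlgSt.ofSpMap g).obj (π'.obj (c.obj ((AlgSt.toOverCat U).obj z))) := K734.Fib.obj_eq_of_iso e _
    refine h1.trans ?_
    have h2 : π'.obj (c.obj ((AlgSt.toOverCat U).obj z)) = (AlgSt.ofSpMap ((AlgSp.yon S).map p)).obj z := hπ' z
    rw [h2]
    rfl
  · rw [← hx', ← hu, K735.PtsSp.map_ofChart]

/-- The map to `Y` of a chart of a stack locally of finite type over `Y`. -/
theorem lft_unchart {𝒳' : AlgSt.Cat S} (h𝒳 : Alg 𝒳) (h𝒳' : Alg 𝒳') {Y : AlgSp.Sp S} (hY : AlgSp.IsAlgSpace Y)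
    {h : 𝒳' ⥤ᵇ 𝒳} (hh : AlgSt.RepByAlgSpWith AlgSp.IsEtaleMor h) {U : Over S} {c : FibCat.overCat U ⥤ᵇ 𝒳'}
    (hc : AlgSt.RepByAlgSpWith (K746.WnaP S) c) (p : 𝒳 ⥤ᵇ AlgSt.ofSp Y)
    (hp : AlgSt.LocQ (AlgSp.LocP @LocallyOfFiniteType) p) :
    AlgSp.LocP @LocallyOfFiniteType (K735.SpFp.unchart (BasedFunctor.comp (BasedFunctor.comp c h) p)) := by
  have hYS : Alg (AlgSt.ofSp Y) := K740.SpDM.isAlgStack_ofSp hY
  have hU := K735.Fp.isFibGrpd_overCat U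
  have hUa := K742.LN.hasAtlas_overCat U
  have hle : (@LocallyOfFinitePresentation : MorphismProperty Scheme.{u}) ≤ @LocallyOfFiniteType :=
    fun _ _ f hf => by have : LocallyOfFinitePresentation f := hf; infer_instance
  have hle' : (@Etale : MorphismProperty Scheme.{u}) ≤ @LocallyOfFiniteType :=
    fun _ _ f hf => by have : Etale f := hf; infer_instance
  have h1 : AlgSt.LocQ (AlgSp.LocP @LocallyOfFiniteType) c :=
    K742.EvQ.locQ_of_rep K742.nice_lft hU h𝒳'.isStack.1 hUa h𝒳'.atlas c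
      (K738.repByAlgSpWith_mono hc fun q hq => K597.locP_mono hle hq.2)
  have h2 : AlgSt.LocQ (AlgSp.LocP @LocallyOfFiniteType) h :=
    K742.EvQ.locQ_of_rep K742.nice_lft h𝒳'.isStack.1 h𝒳.isStack.1 h𝒳'.atlas h𝒳.atlas h
      (K738.repByAlgSpWith_mono hh fun q hq => K597.locP_mono hle' (K597.locP_etale_of_isEtaleMor hq))
  have h3 := K742.EvQ.locQ_comp K742.nice_lft hU h𝒳.isStack.1 hYS.isStack.1 hUa h𝒳.atlas hYS.atlas _ _
    (K742.EvQ.locQ_comp K742.nice_lft hU h𝒳'.isStack.1 h𝒳.isStack.1 hUa h𝒳'.atlas h𝒳.atlas _ _ h1 h2) hp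
  have hyU : Alg (AlgSt.ofSch U) := K740.SpDM.isAlgStack_ofSp (F := (AlgSp.yon S).obj U) (AlgSp.IsAlgSpace.yon_obj U)
  have h4 : AlgSt.RepByAlgSpWith (AlgSp.LocP @LocallyOfFiniteType) (AlgSt.toOverCat U) :=
    (K740.SpDM.repByAlgSpWith_comp_equiv (x := BasedFunctor.id _) (K735.Rep.isEquivOver_toOverCat U)).2
      (K741.repByAlgSpWith_id _ fun V => ((K742.nice_lft.yon_iff (𝟙 V)).2
        (by change LocallyOfFiniteType (𝟙 _); infer_instance) : AlgSp.LocP _ ((AlgSp.yon S).map (𝟙 V))))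
  have h5 : AlgSt.LocQ (AlgSp.LocP @LocallyOfFiniteType) (AlgSt.toOverCat U) :=
    K742.EvQ.locQ_of_rep K742.nice_lft hyU.isStack.1 hU hyU.atlas hUa _ h4
  have h6 := K742.EvQ.locQ_comp K742.nice_lft hyU.isStack.1 hU hYS.isStack.1 hyU.atlas hUa hYS.atlas _ _ h5 h3
  obtain ⟨i⟩ := K735.Rep.exists_iso_spMap (BasedFunctor.comp (AlgSt.toOverCat U)
    (BasedFunctor.comp (BasedFunctor.comp c h) p))
  have h7 := K742.EvQ.locQ_iso i h6
  exact (K741.locQ_ofSpMap_iff K894.SmST.isSmoothLocalST_lft (AlgSp.IsAlgSpace.yon_obj U) hY _).1 h7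

/-- S16693 from S16696 and S16703 (and the surjectivity of `|𝒳| → |M|`). -/
theorem locP_lft (i3 : I16703 S) (i6 : I16696 S) (h𝒳 : Alg 𝒳)
    (hI : AlgSt.RepByAlgSpWith AlgSp.IsFiniteMor (FibCat.inertiaToBase (FibCat.toSelf 𝒳)))
    {Y : AlgSp.Sp S} (hY : AlgSp.IsAlgSpace Y) (hYn : AlgSp.IsLocNoethSp Y)
    (p : 𝒳 ⥤ᵇ AlgSt.ofSp Y) (hp : AlgSt.LocQ (AlgSp.LocP @LocallyOfFiniteType) p)
    (π : 𝒳 ⥤ᵇ AlgSt.ofSp M) (hπ : AlgSt.IsCatModuli π) (hs : Function.Surjective (AlgSt.Points.map π))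
    (g : M ⟶ Y) (hg : Nonempty (BasedFunctor.comp π (AlgSt.ofSpMap g) ≅ p)) :
    AlgSp.LocP @LocallyOfFiniteType g := by
  refine K597.locP_of_local K597.etLoc_lft g fun U' a' ha' u' => ?_
  obtain ⟨x, hx⟩ := hs ((K735.PtsSp.ptsEquiv M).symm (AlgSp.Points.ofPt a' u'))
  obtain ⟨𝒳', h, U, N, c, q, gM, u, h𝒳', het, hc, hU, hN, hint, hinj, hgM, hq, hu⟩ := exists_nhd i3 i6 h𝒳 hI π hπ x
  have hgMr : AlgSp.RepWith @Etale gM := by
    have := hgM (𝟙 _) (AlgSp.repWith_id _ N)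
    rwa [Category.id_comp] at this
  -- the point of `N`
  have hpt : AlgSp.Points.ofPt gM (q.left u) = AlgSp.Points.ofPt a' u' := by
    rw [← K621.Base.ofPt_comp, ← hq, K736.KM.ofPt_unchart, hu, hx, Equiv.apply_symm_apply]
  have hpY : K735.SpFp.unchart (BasedFunctor.comp (BasedFunctor.comp c h) p) = (AlgSp.yon S).map q ≫ gM ≫ g := by
    refine unchart_eq _ _ fun z => ?_
    obtain ⟨i⟩ := hg
    obtain ⟨i'⟩ := K735.Rep.exists_iso_spMap (BasedFunctor.comp (AlgSt.toOverCat U)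
      (BasedFunctor.comp (BasedFunctor.comp c h) π))
    have e1 : (AlgSt.ofSpMap g).obj (π.obj (h.obj (c.obj ((AlgSt.toOverCat U).obj z)))) =
        p.obj (h.obj (c.obj ((AlgSt.toOverCat U).obj z))) := K734.Fib.obj_eq_of_iso i _
    have e2 : π.obj (h.obj (c.obj ((AlgSt.toOverCat U).obj z))) =
        (AlgSt.ofSpMap (K735.SpFp.unchart (BasedFunctor.comp (BasedFunctor.comp c h) π))).obj z :=
      K734.Fib.obj_eq_of_iso i' z
    refine e1.symm.trans ?_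
    rw [e2, hq]
    rfl
  -- the chart of `Y`
  obtain ⟨V, v, hv, hvs, hVn⟩ := hYn
  obtain ⟨W, w₁, w₂, sqW, hw₂⟩ := K597.exists_sq2 hv (gM ≫ g)
  have hw₂s : Surjective w₂.left := K597.repWith_prop hvs sqW
  obtain ⟨w, hw⟩ := hw₂s.surj (q.left u)
  obtain ⟨V₀, hV₀, hwV₀, -⟩ := exists_isAffineOpen_mem_and_subset (show w₁.left w ∈ (⊤ : V.left.Opens) from trivial)
  obtain ⟨W₀, hW₀, hwW₀, hWV₀⟩ := exists_isAffineOpen_mem_and_subset (show w ∈ w₁.left ⁻¹ᵁ V₀ from hwV₀)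
  let A : Over S := Over.mk (W₀.ι ≫ W.hom)
  let j : A ⟶ W := Over.homMk W₀.ι rfl
  have hj : Etale (j ≫ w₂).left := by
    have h1 : Etale j.left := (inferInstance : Etale W₀.ι)
    have h2 : Etale w₂.left := hw₂
    rw [Over.comp_left]
    infer_instance
  have ha : AlgSp.RepWith @Etale ((AlgSp.yon S).map (j ≫ w₂) ≫ gM) :=
    MorphismProperty.comp_mem _ _ _ ((AlgSp.repWith_yon_map_iff _ _).2 hj) hgMr
  obtain ⟨B, b₁, b₂, sqB, hb₂⟩ := K597.exists_sq2 ha a'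
  have hb₁ : Etale b₁.left := K597.repWith_prop' ha' sqB
  have hpt' : AlgSp.Points.ofPt ((AlgSp.yon S).map (j ≫ w₂) ≫ gM) (⟨w, hwW₀⟩ : W₀) = AlgSp.Points.ofPt a' u' := by
    rw [K621.Base.ofPt_comp, ← hpt, ← hw]
    rfl
  obtain ⟨b, -, hb⟩ := K621.Base.exists_point_of_isPullback sqB _ _ hpt'
  refine ⟨A, V, B, (AlgSp.yon S).map (j ≫ w₂) ≫ gM, v, j ≫ w₁, b₁, b₂, hv, ?_, ?_, sqB.w, hb₁, hb₂, ⟨b, hb⟩⟩
  · rw [Functor.map_comp, Functor.map_comp, Category.assoc, Category.assoc, Category.assoc, sqW.w]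
  · -- Artin-Tate
    have hmor : W₀.ι ≫ w₁.left = IsOpenImmersion.lift V₀.ι (W₀.ι ≫ w₁.left) (by
        rw [Scheme.Opens.range_ι, Scheme.Hom.comp_base]
        rintro _ ⟨z, rfl⟩
        exact hWV₀ z.2) ≫ V₀.ι := (IsOpenImmersion.lift_fac _ _ _).symm
    set k := IsOpenImmersion.lift V₀.ι (W₀.ι ≫ w₁.left) _ with hk
    have : IsAffine U.left := hU
    have : IsAffine N.left := hN
    have : IsAffine (W₀ : Scheme.{u}) := hW₀
    have : IsAffine (V₀ : Scheme.{u}) := hV₀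
    have : IsIntegralHom q.left := hint
    have hjf : Etale (W₀.ι ≫ w₂.left) := hj
    have : Flat (W₀.ι ≫ w₂.left) := inferInstance
    have key : LocallyOfFiniteType k := by
      refine KMFin.lft_affine q.left (W₀.ι ≫ w₂.left) k (IsPullback.of_hasPullback q.left (W₀.ι ≫ w₂.left)) hinj ?_
      let P : Over S := Over.mk (pullback.fst q.left (W₀.ι ≫ w₂.left) ≫ U.hom)
      let a : P ⟶ U := Over.homMk (pullback.fst q.left (W₀.ι ≫ w₂.left)) rfl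
      let d : P ⟶ A := Over.homMk (pullback.snd q.left (W₀.ι ≫ w₂.left)) (by
        change pullback.snd q.left (W₀.ι ≫ w₂.left) ≫ W₀.ι ≫ W.hom = pullback.fst q.left (W₀.ι ≫ w₂.left) ≫ U.hom
        rw [← Over.w w₂, ← Over.w q, pullback.condition_assoc, Category.assoc])
      have hda : a ≫ q = d ≫ j ≫ w₂ := by
        ext
        exact pullback.condition
      have hae : Etale a.left := by
        change Etale (pullback.fst q.left (W₀.ι ≫ w₂.left))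
        infer_instance
      have h1 := lft_unchart h𝒳 h𝒳' hY het hc p hp ((AlgSp.yon S).map a) v (d ≫ j ≫ w₁)
        ((AlgSp.repWith_yon_map_iff _ _).2 hae) hv (by
          rw [hpY, ← Category.assoc, ← Functor.map_comp, hda, Functor.map_comp, Functor.map_comp, Category.assoc,
            Category.assoc, ← sqW.w, Functor.map_comp, Functor.map_comp, Category.assoc, Category.assoc])
      have h2 : LocallyOfFiniteType ((pullback.snd q.left (W₀.ι ≫ w₂.left) ≫ k) ≫ V₀.ι) := by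
        rw [Category.assoc, ← hmor]
        exact h1
      exact locallyOfFiniteType_of_comp _ V₀.ι
    change LocallyOfFiniteType (W₀.ι ≫ w₁.left)
    rw [hmor]
    infer_instance

/-- S16693 from S16692, S16696 and S16703. -/
theorem main16693 (i2 : I16692 S) (i3 : I16703 S) (i6 : I16696 S) (𝒳 : AlgSt.Cat S)
    (h𝒳 : AlgSt.IsAlgStack Scheme.fppfPrecoverage 𝒳)
    (hI : AlgSt.RepByAlgSpWith AlgSp.IsFiniteMor (FibCat.inertiaToBase (FibCat.toSelf 𝒳)))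
    (Y : AlgSp.Sp S) (hY : AlgSp.IsAlgSpace Y) (hYn : AlgSp.IsLocNoethSp Y)
    (p : 𝒳 ⥤ᵇ AlgSt.ofSp Y) (hp : AlgSt.LocQ (AlgSp.LocP @LocallyOfFiniteType) p)
    (M : AlgSp.Sp S) (π : 𝒳 ⥤ᵇ AlgSt.ofSp M) (hπ : AlgSt.IsCatModuli π)
    (g : M ⟶ Y) (hg : Nonempty (BasedFunctor.comp π (AlgSt.ofSpMap g) ≅ p)) :
    AlgSp.LocP @LocallyOfFiniteType g :=
  locP_lft i3 i6 h𝒳 hI hY hYn p hp π hπ (surjective_of_univHomeo hπ.1 (props i2 h𝒳 hI π hπ).2) g hg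

end K608.KMLft
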